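import Mathlib

set_option linter.style.haveILetI false
set_option linter.unusedVariables false
set_option linter.unusedSectionVars false
set_option autoImplicit false
set_option backward.isDefEq.respectTransparency.types false
set_option synthInstance.maxHeartbeats 400000
set_option maxHeartbeats 1600000

universe u

/-! helper7: flatness over a "semi-valuation" ring `O`: a ring with a prime `pp` such that any
element outside `pp` is comparable (for divisibility) with every element.  A module which embeds in
its localization at `pp`, the latter being flat, is flat. -/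

open TensorProduct

namespace Groth.Agent.Helper7.SemiVal

section Flat

variable {O : Type u} [CommRing O] (pp : Ideal O) [hpp : pp.IsPrime]
  (hK : ∀ a b : O, b ∉ pp → b ∣ a ∨ a ∣ b)
  (hreg : ∀ t : O, t ∉ pp → ∀ x : O, t * x = 0 → x = 0)

include hK in
theorem minDivOn {ι : Type} (T : Finset ι) (c : ι → O) (h : ∃ i ∈ T, c i ∉ pp) :
    ∃ i₁ ∈ T, c i₁ ∉ pp ∧ ∀ i ∈ T, c i₁ ∣ c i := by
  classical
  induction T using Finset.induction_on with
  | empty =>
    obtain ⟨i, hi, _⟩ := h
    exact absurd hi (Finset.notMem_empty i)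
  | insert j T hj ih =>
    obtain ⟨i, hi, hci⟩ := h
    by_cases hT : ∃ i ∈ T, c i ∉ pp
    · obtain ⟨i₁, hi₁T, hi₁, hdiv⟩ := ih hT
      rcases hK (c j) (c i₁) hi₁ with h | h
      · refine ⟨i₁, Finset.mem_insert_of_mem hi₁T, hi₁, ?_⟩
        intro i' hi'
        rcases Finset.mem_insert.mp hi' with h' | h'
        · rw [h']; exact h
        · exact hdiv i' h'
      · have hj' : c j ∉ pp := by
          intro hmem
          obtain ⟨d, hd⟩ := h
          apply hi₁
          rw [hd]
          exact pp.mul_mem_right d hmem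
        refine ⟨j, Finset.mem_insert_self j T, hj', ?_⟩
        intro i' hi'
        rcases Finset.mem_insert.mp hi' with h' | h'
        · rw [h']
        · exact dvd_trans h (hdiv i' h')
    · have hT' : ∀ i ∈ T, c i ∈ pp := fun i hi => by
        by_contra hh
        exact hT ⟨i, hi, hh⟩
      have hij : i = j := by
        rcases Finset.mem_insert.mp hi with h | h
        · exact h
        · exact absurd (hT' i h) hci
      have hcj : c j ∉ pp := hij ▸ hci
      refine ⟨j, Finset.mem_insert_self j T, hcj, ?_⟩
      intro i' hi'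
      rcases Finset.mem_insert.mp hi' with h' | h'
      · rw [h']
      · rcases hK (c i') (c j) hcj with h | h
        · exact h
        · exfalso
          obtain ⟨d, hd⟩ := h
          apply hcj
          rw [hd]
          exact pp.mul_mem_right d (hT' i' h')

include hK in
theorem divP {t a : O} (ht : t ∉ pp) (ha : a ∈ pp) : ∃ b ∈ pp, a = t * b := by
  rcases hK a t ht with h | h
  · obtain ⟨b, hb⟩ := h
    refine ⟨b, ?_, hb⟩
    have h1 : t * b ∈ pp := hb ▸ ha
    exact (hpp.mem_or_mem h1).resolve_left ht
  · exfalso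
    obtain ⟨d, hd⟩ := h
    apply ht
    rw [hd]
    exact pp.mul_mem_right d ha

variable {M M' : Type u} [AddCommGroup M] [Module O M] [AddCommGroup M'] [Module O M']
  (f : M →ₗ[O] M') [hloc : IsLocalizedModule pp.primeCompl f] (hf : Function.Injective f)

include hf in
theorem regM {t : O} (ht : t ∉ pp) {m₁ m₂ : M} (h : t • m₁ = t • m₂) : m₁ = m₂ := by
  apply hf
  have h1 : (⟨t, ht⟩ : pp.primeCompl) • f m₁ = (⟨t, ht⟩ : pp.primeCompl) • f m₂ := by
    show t • f m₁ = t • f m₂
    rw [← map_smul, ← map_smul, h]
  exact IsLocalizedModule.smul_injective f ⟨t, ht⟩ h1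

include hf in
theorem lemE [Module.Flat O M'] {ι : Type} (T : Finset ι) (c : ι → O) (x : ι → M)
    (hrel : ∑ i ∈ T, c i • x i = 0) :
    ∃ (k : ℕ) (s : O) (_ : s ∉ pp) (a : ι → Fin k → O) (y : Fin k → M),
      (∀ i ∈ T, s • x i = ∑ j, a i j • y j) ∧ ∀ j, ∑ i ∈ T, c i * a i j = 0 := by
  classical
  have h1 : ∑ i : ↥T, c i • f (x i) = 0 := by
    rw [Finset.sum_coe_sort T (fun i => c i • f (x i))]
    have h0 := congrArg f hrel
    rw [map_sum, map_zero] at h0
    refine Eq.trans (Finset.sum_congr rfl fun i _ => ?_) h0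
    exact (map_smul f (c i) (x i)).symm
  obtain ⟨k, a₀, y, hxy, hca⟩ := Module.Flat.isTrivialRelation_of_sum_smul_eq_zero
    (f := fun i : ↥T => c i) (x := fun i : ↥T => f (x i)) h1
  choose d hd using fun j => IsLocalizedModule.surj pp.primeCompl f (y j)
  let sO : Fin k → O := fun j => ((d j).2 : O)
  have hd' : ∀ j, sO j • y j = f (d j).1 := fun j => hd j
  have hs : (∏ j, sO j) ∉ pp := by
    have h2 : (∏ j, sO j) ∈ pp.primeCompl := Submonoid.prod_mem _ (fun j _ => (d j).2.2)
    exact h2
  have hy' : ∀ j, f ((∏ j' ∈ Finset.univ.erase j, sO j') • (d j).1) = (∏ j, sO j) • y j := by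
    intro j
    rw [map_smul, ← hd' j, smul_smul, Finset.prod_erase_mul _ _ (Finset.mem_univ j)]
  refine ⟨k, ∏ j, sO j, hs, fun i j => if h : i ∈ T then a₀ ⟨i, h⟩ j else 0,
    fun j => (∏ j' ∈ Finset.univ.erase j, sO j') • (d j).1, ?_, ?_⟩
  · intro i hi
    beta_reduce
    apply hf
    have hxy' : f (x i) = ∑ j, a₀ ⟨i, hi⟩ j • y j := hxy ⟨i, hi⟩
    rw [map_smul, hxy', map_sum, Finset.smul_sum]
    refine Finset.sum_congr rfl fun j _ => ?_
    simp only [dif_pos hi]
    rw [map_smul, hy' j, smul_comm]
  · intro j
    beta_reduce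
    have h3 : ∑ i : ↥T, c i * a₀ i j = 0 := hca j
    rw [← Finset.sum_coe_sort T (fun i => c i * (if h : i ∈ T then a₀ ⟨i, h⟩ j else 0))]
    refine Eq.trans (Finset.sum_congr rfl fun i _ => ?_) h3
    simp only [dif_pos i.2]

/-- triviality of a relation indexed by a finset. -/
def TRon {ι : Type} (T : Finset ι) (c : ι → O) (x : ι → M) : Prop :=
  ∃ (κ : Type) (_ : Fintype κ) (a : ι → κ → O) (y : κ → M),
    (∀ i ∈ T, x i = ∑ j, a i j • y j) ∧ ∀ j, ∑ i ∈ T, c i * a i j = 0

include hK hreg hf in
theorem trivRelOn [Module.Flat O M'] {ι : Type} (n : ℕ) : ∀ (T : Finset ι), T.card = n →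
    ∀ (c : ι → O) (x : ι → M), ∑ i ∈ T, c i • x i = 0 → TRon T c x := by
  classical
  induction n using Nat.strong_induction_on with
  | _ n ih =>
  intro T hcard c x hrel
  by_cases hA : ∃ i ∈ T, c i ∉ pp
  · obtain ⟨i₀, hi₀T, hi₀, hdiv⟩ := minDivOn pp hK T c hA
    have hex : ∀ i, ∃ d, i ∈ T → c i = c i₀ * d := by
      intro i
      by_cases h : i ∈ T
      · obtain ⟨d, hd⟩ := hdiv i h
        exact ⟨d, fun _ => hd⟩
      · exact ⟨0, fun h' => absurd h' h⟩
    choose e he using hex
    have h2 : ∑ i ∈ T, e i • x i = 0 := by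
      have h21 : c i₀ • ∑ i ∈ T, e i • x i = c i₀ • (0 : M) := by
        rw [smul_zero, Finset.smul_sum]
        exact (Finset.sum_congr rfl fun i hi => by rw [smul_smul, ← he i hi]).trans hrel
      exact regM pp f hf hi₀ h21
    refine ⟨↥T, inferInstance,
      fun i j => (if (j : ι) = i then 1 else 0) - (if i = i₀ then e j else 0), fun j => x j, ?_, ?_⟩
    · intro i hi
      beta_reduce
      have h3 : ∑ j : ↥T, (if i = i₀ then e j else 0) • x j = 0 := by
        rw [Finset.sum_coe_sort T (fun j => (if i = i₀ then e j else 0) • x j)]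
        by_cases hi0 : i = i₀
        · simp only [if_pos hi0]; exact h2
        · simp only [if_neg hi0, zero_smul, Finset.sum_const_zero]
      have h5 : ∑ j : ↥T, (if (j : ι) = i then (1 : O) else 0) • x j = x i := by
        rw [Finset.sum_coe_sort T (fun j => (if j = i then (1 : O) else 0) • x j)]
        simp only [ite_smul, one_smul, zero_smul]
        rw [Finset.sum_ite_eq', if_pos hi]
      simp only [sub_smul, Finset.sum_sub_distrib]
      rw [h3, h5, sub_zero]
    · intro j
      beta_reduce
      simp only [mul_sub, Finset.sum_sub_distrib, mul_ite, mul_one, mul_zero]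
      rw [Finset.sum_ite_eq, Finset.sum_ite_eq', if_pos j.2, if_pos hi₀T, ← he j j.2, sub_self]
  · have hB : ∀ i ∈ T, c i ∈ pp := fun i hi => by
      by_contra hh
      exact hA ⟨i, hi, hh⟩
    obtain ⟨k, s, hs, a, y, hxy, hca⟩ := lemE pp f hf T c x hrel
    by_cases hB1 : ∀ i ∈ T, ∀ j, a i j ∈ pp
    · have hex : ∀ i j, ∃ b', i ∈ T → a i j = s * b' := by
        intro i j
        by_cases h : i ∈ T
        · obtain ⟨b', _, hb'⟩ := divP pp hK hs (hB1 i h j)
          exact ⟨b', fun _ => hb'⟩
        · exact ⟨0, fun h' => absurd h' h⟩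
      choose b hb using hex
      refine ⟨Fin k, inferInstance, b, y, ?_, ?_⟩
      · intro i hi
        apply regM pp f hf hs
        rw [hxy i hi, Finset.smul_sum]
        exact Finset.sum_congr rfl fun j _ => by rw [smul_smul, ← hb i j hi]
      · intro j
        apply hreg s hs
        rw [Finset.mul_sum]
        refine Eq.trans (Finset.sum_congr rfl fun i hi => ?_) (hca j)
        rw [hb i j hi]; ring
    · have hex : ∃ i ∈ T, ∃ j, a i j ∉ pp := by
        by_contra hh
        apply hB1
        intro i hi j
        by_contra h'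
        exact hh ⟨i, hi, j, h'⟩
      obtain ⟨i', hi'T, j₁, hij⟩ := hex
      obtain ⟨i₁, hi₁T, hu, hdiv⟩ := minDivOn pp hK T (fun i => a i j₁) ⟨i', hi'T, hij⟩
      have hu' : a i₁ j₁ ∉ pp := hu
      have hex2 : ∀ i, ∃ d, i ∈ T → a i j₁ = a i₁ j₁ * d := by
        intro i
        by_cases h : i ∈ T
        · obtain ⟨d, hd⟩ := hdiv i h
          exact ⟨d, fun _ => hd⟩
        · exact ⟨0, fun h' => absurd h' h⟩
      choose e he using hex2
      have h4 : ∑ i ∈ T, c i * e i = 0 := by
        apply hreg (a i₁ j₁) hu'
        rw [Finset.mul_sum]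
        refine Eq.trans (Finset.sum_congr rfl fun i hi => ?_) (hca j₁)
        rw [he i hi]; ring
      have he1 : e i₁ = 1 := by
        have h := hreg (a i₁ j₁) hu' (e i₁ - 1) (by
          rw [mul_sub, mul_one, ← he i₁ hi₁T, sub_self])
        exact sub_eq_zero.mp h
      let x' : ι → M := fun i => x i - e i • x i₁
      have hfull : ∑ i ∈ T, c i • x' i = 0 := by
        have h6 : ∑ i ∈ T, c i • x' i = ∑ i ∈ T, c i • x i - (∑ i ∈ T, c i * e i) • x i₁ := by
          rw [Finset.sum_smul, ← Finset.sum_sub_distrib]
          exact Finset.sum_congr rfl fun i _ => by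
            show c i • (x i - e i • x i₁) = c i • x i - (c i * e i) • x i₁
            rw [smul_sub, smul_smul]
        rw [h6, hrel, h4, zero_smul, sub_zero]
      have hx'1 : c i₁ • x' i₁ = 0 := by
        show c i₁ • (x i₁ - e i₁ • x i₁) = 0
        rw [he1, one_smul, sub_self, smul_zero]
      have hrel' : ∑ i ∈ T.erase i₁, c i • x' i = 0 := by
        have h7 := Finset.add_sum_erase T (fun i => c i • x' i) hi₁T
        rw [hfull] at h7
        rw [hx'1, zero_add] at h7
        exact h7
      have hlt : (T.erase i₁).card < n := by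
        rw [← hcard]
        exact Finset.card_erase_lt_of_mem hi₁T
      obtain ⟨κ, _, b, z, hb1, hb2⟩ := ih _ hlt (T.erase i₁) rfl c x' hrel'
      refine ⟨Option κ, inferInstance,
        fun i o => o.elim (e i) (fun l => if i = i₁ then 0 else b i l),
        fun o => o.elim (x i₁) z, ?_, ?_⟩
      · intro i hi
        beta_reduce
        rw [Fintype.sum_option]
        simp only [Option.elim_none, Option.elim_some]
        by_cases hii : i = i₁
        · simp only [if_pos hii, zero_smul, Finset.sum_const_zero, add_zero]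
          rw [hii, he1, one_smul]
        · simp only [if_neg hii]
          rw [← hb1 i (Finset.mem_erase.mpr ⟨hii, hi⟩)]
          show x i = e i • x i₁ + (x i - e i • x i₁)
          abel
      · intro o
        beta_reduce
        cases o with
        | none =>
          simp only [Option.elim_none]
          exact h4
        | some l =>
          simp only [Option.elim_some]
          rw [← Finset.add_sum_erase T (fun i => c i * (if i = i₁ then 0 else b i l)) hi₁T]
          rw [if_pos rfl, mul_zero, zero_add]
          refine Eq.trans (Finset.sum_congr rfl fun i hi => ?_) (hb2 l)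
          rw [if_neg (Finset.ne_of_mem_erase hi)]

include hK hreg hf in
theorem flat_of_semival [Module.Flat O M'] : Module.Flat O M := by
  classical
  apply Module.Flat.of_forall_isTrivialRelation
  intro l c x hrel
  obtain ⟨κ, _, a, y, h1, h2⟩ :=
    trivRelOn pp hK hreg f hf _ (Finset.univ : Finset (Fin l)) rfl c x hrel
  let e := Fintype.equivFin κ
  refine ⟨Fintype.card κ, fun i j => a i (e.symm j), fun j => y (e.symm j), ?_, ?_⟩
  · intro i
    rw [h1 i (Finset.mem_univ i)]
    exact (Equiv.sum_comp e.symm (fun j => a i j • y j)).symm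
  · intro j
    exact h2 (e.symm j)

end Flat

end Groth.Agent.Helper7.SemiVal
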