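import Mathlib
import Groth.Agent.Lib.Helper7.ValFP.Main
import Groth.Agent.Lib.Helper7.SemiVal.Flat

set_option linter.style.haveILetI false
set_option linter.unusedVariables false
set_option linter.unusedSectionVars false
set_option autoImplicit false
set_option backward.isDefEq.respectTransparency.types false
set_option synthInstance.maxHeartbeats 400000
set_option maxHeartbeats 1600000

universe u

/-! helper7: finite presentation over a semi-valuation ring, and the statement for the preimage of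
a valuation ring of the residue field of a local ring. -/

open TensorProduct

namespace Groth.Agent.Helper7.SemiVal

theorem algebra_finitePresentation_of_flat (V : Type u) [CommRing V] [IsDomain V] [ValuationRing V]
    (B : Type u) [CommRing B] [Algebra V B] [Algebra.FiniteType V B] [Module.Flat V B] :
    Algebra.FinitePresentation V B := by
  obtain ⟨n, φ, hφ⟩ := Algebra.FiniteType.iff_quotient_mvPolynomial''.mp
    (inferInstance : Algebra.FiniteType V B)
  letI : Algebra (MvPolynomial (Fin n) V) B := φ.toRingHom.toAlgebra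
  haveI : IsScalarTower V (MvPolynomial (Fin n) V) B :=
    IsScalarTower.of_algebraMap_eq (fun r => (φ.commutes r).symm)
  haveI : Module.Finite (MvPolynomial (Fin n) V) B :=
    Module.Finite.of_surjective (Algebra.linearMap (MvPolynomial (Fin n) V) B) hφ
  haveI : Module.FinitePresentation (MvPolynomial (Fin n) V) B :=
    Groth.Agent.Helper7.ValFP.finitePresentation_of_finiteType V
  have hfg : (LinearMap.ker (Algebra.linearMap (MvPolynomial (Fin n) V) B)).FG :=
    Module.FinitePresentation.fg_ker _ hφ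
  have hkerEq : RingHom.ker φ.toRingHom =
      LinearMap.ker (Algebra.linearMap (MvPolynomial (Fin n) V) B) := by
    ext x; exact Iff.rfl
  exact Algebra.FinitePresentation.of_surjective hφ (hkerEq ▸ hfg)

section Gen

variable {O : Type u} [CommRing O]

theorem exists_finset_map_eq (C : Type u) [CommRing C] [Algebra O C]
    (W : Type u) [CommRing W] [Algebra O W]
    [Algebra.FinitePresentation W (W ⊗[O] C)] {n : ℕ}
    (π : MvPolynomial (Fin n) O →ₐ[O] C) (hπ : Function.Surjective π) :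
    ∃ s : Finset (MvPolynomial (Fin n) O),
      (s : Set (MvPolynomial (Fin n) O)) ⊆ (RingHom.ker π : Set (MvPolynomial (Fin n) O)) ∧
      Ideal.map (Algebra.TensorProduct.includeRight :
          MvPolynomial (Fin n) O →ₐ[O] W ⊗[O] MvPolynomial (Fin n) O)
        (Ideal.span (s : Set (MvPolynomial (Fin n) O))) =
      Ideal.map (Algebra.TensorProduct.includeRight :
          MvPolynomial (Fin n) O →ₐ[O] W ⊗[O] MvPolynomial (Fin n) O)
        (RingHom.ker π) := by
  classical
  let πW : W ⊗[O] MvPolynomial (Fin n) O →ₐ[W] W ⊗[O] C :=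
    Algebra.TensorProduct.map (AlgHom.id W W) π
  have hπW : Function.Surjective πW :=
    Algebra.TensorProduct.map_surjective (f := AlgHom.id W W) (g := π) Function.surjective_id hπ
  have hfg : (RingHom.ker πW.toRingHom).FG :=
    Algebra.FinitePresentation.ker_fG_of_surjective πW hπW
  have hpt : ∀ z, πW z = Algebra.TensorProduct.map (AlgHom.id O W) π z := by
    intro z
    induction z using TensorProduct.induction_on with
    | zero => simp
    | tmul a p => simp [πW]
    | add z w hz hw => rw [map_add, map_add, hz, hw]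
  have hkm : RingHom.ker πW.toRingHom = (RingHom.ker π).map
      (Algebra.TensorProduct.includeRight :
        MvPolynomial (Fin n) O →ₐ[O] W ⊗[O] MvPolynomial (Fin n) O) := by
    rw [← Algebra.TensorProduct.lTensor_ker (A := W) π hπ]
    ext z
    show πW z = 0 ↔ Algebra.TensorProduct.map (AlgHom.id O W) π z = 0
    rw [hpt z]
  rw [hkm] at hfg
  have hspan : Ideal.map (Algebra.TensorProduct.includeRight :
        MvPolynomial (Fin n) O →ₐ[O] W ⊗[O] MvPolynomial (Fin n) O) (RingHom.ker π) =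
      Submodule.span _ ((Algebra.TensorProduct.includeRight :
        MvPolynomial (Fin n) O →ₐ[O] W ⊗[O] MvPolynomial (Fin n) O) ''
        ((RingHom.ker π : Ideal (MvPolynomial (Fin n) O)) : Set (MvPolynomial (Fin n) O))) := rfl
  rw [hspan] at hfg
  obtain ⟨s', hs'1, hs'2⟩ := (Submodule.fg_span_iff_fg_span_finset_subset _).mp hfg
  obtain ⟨s'', hs''1, hs''2⟩ := Finset.subset_set_image_iff.mp hs'1
  refine ⟨s'', hs''1, ?_⟩
  rw [Ideal.map_span, hspan, hs'2, ← hs''2, Finset.coe_image]

variable (pp : Ideal O) [hpp : pp.IsPrime]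
  (hK : ∀ a b : O, b ∉ pp → b ∣ a ∨ a ∣ b)

include hK in
theorem valuationRing_quotient : ValuationRing (O ⧸ pp) := by
  refine { cond' := ?_ }
  intro a b
  obtain ⟨a, rfl⟩ := Ideal.Quotient.mk_surjective a
  obtain ⟨b, rfl⟩ := Ideal.Quotient.mk_surjective b
  by_cases hb : b ∈ pp
  · refine ⟨0, Or.inl ?_⟩
    rw [mul_zero]
    exact (Ideal.Quotient.eq_zero_iff_mem.mpr hb).symm
  · rcases hK a b hb with ⟨d, hd⟩ | ⟨d, hd⟩
    · exact ⟨Ideal.Quotient.mk pp d, Or.inr (by rw [← map_mul, ← hd])⟩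
    · exact ⟨Ideal.Quotient.mk pp d, Or.inl (by rw [← map_mul, ← hd])⟩

variable (A : Type u) [CommRing A] [Algebra O A] [IsLocalization.AtPrime A pp]
  (C : Type u) [CommRing C] [Algebra O C]

theorem exists_K1 [Algebra.FinitePresentation A (A ⊗[O] C)] {n : ℕ}
    (π : MvPolynomial (Fin n) O →ₐ[O] C) (hπ : Function.Surjective π) :
    ∃ K₁ : Ideal (MvPolynomial (Fin n) O), K₁ ≤ RingHom.ker π ∧ K₁.FG ∧
      ∀ x ∈ RingHom.ker π, ∃ t : O, t ∉ pp ∧ t • x ∈ K₁ := by
  classical
  obtain ⟨s, hs1, hs2⟩ := exists_finset_map_eq C A π hπ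
  letI : Algebra (MvPolynomial (Fin n) O) (A ⊗[O] MvPolynomial (Fin n) O) :=
    Algebra.TensorProduct.rightAlgebra
  haveI : IsLocalization (Algebra.algebraMapSubmonoid (MvPolynomial (Fin n) O) pp.primeCompl)
      (A ⊗[O] MvPolynomial (Fin n) O) := IsLocalization.tensorRight A pp.primeCompl
  refine ⟨Ideal.span (s : Set (MvPolynomial (Fin n) O)), Ideal.span_le.mpr hs1, ⟨s, rfl⟩, ?_⟩
  intro x hx
  have h1 : algebraMap (MvPolynomial (Fin n) O) (A ⊗[O] MvPolynomial (Fin n) O) x ∈
      Ideal.map (algebraMap (MvPolynomial (Fin n) O) (A ⊗[O] MvPolynomial (Fin n) O))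
        (Ideal.span (s : Set (MvPolynomial (Fin n) O))) := by
    have h0 := Ideal.mem_map_of_mem (Algebra.TensorProduct.includeRight :
      MvPolynomial (Fin n) O →ₐ[O] A ⊗[O] MvPolynomial (Fin n) O) hx
    rw [← hs2] at h0
    exact h0
  obtain ⟨⟨k, t⟩, hkt⟩ := (IsLocalization.mem_map_algebraMap_iff
    (Algebra.algebraMapSubmonoid (MvPolynomial (Fin n) O) pp.primeCompl)
    (A ⊗[O] MvPolynomial (Fin n) O)).mp h1
  rw [← map_mul] at hkt
  obtain ⟨c, hc⟩ := (IsLocalization.eq_iff_exists
    (Algebra.algebraMapSubmonoid (MvPolynomial (Fin n) O) pp.primeCompl)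
    (A ⊗[O] MvPolynomial (Fin n) O)).mp hkt
  obtain ⟨u, hu, hcu⟩ := (c * t).2
  refine ⟨u, hu, ?_⟩
  have h2 : u • x = (c : MvPolynomial (Fin n) O) * (k : MvPolynomial (Fin n) O) := by
    rw [Algebra.smul_def, hcu, ← hc]
    push_cast
    ring
  rw [h2]
  exact Ideal.mul_mem_left _ _ k.2

include hK in
theorem mem_K1_of_coeff [Module.Flat O C] {n : ℕ}
    (π : MvPolynomial (Fin n) O →ₐ[O] C) (hπ : Function.Surjective π)
    (K₁ : Ideal (MvPolynomial (Fin n) O))
    (hK₁ : ∀ x ∈ RingHom.ker π, ∃ t : O, t ∉ pp ∧ t • x ∈ K₁)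
    (g : MvPolynomial (Fin n) O) (hg : g ∈ RingHom.ker π)
    (hcoef : ∀ m, MvPolynomial.coeff m g ∈ pp) : g ∈ K₁ := by
  classical
  have hsum : ∑ m ∈ g.support, MvPolynomial.coeff m g • MvPolynomial.monomial m (1 : O) = g := by
    conv_rhs => rw [← MvPolynomial.support_sum_monomial_coeff g]
    refine Finset.sum_congr rfl fun m _ => ?_
    rw [MvPolynomial.smul_monomial, smul_eq_mul, mul_one]
  have hrel : ∑ j : ↥g.support, MvPolynomial.coeff (j : Fin n →₀ ℕ) g •
      π (MvPolynomial.monomial (j : Fin n →₀ ℕ) (1 : O)) = 0 := by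
    rw [Finset.sum_coe_sort g.support
      (fun m => MvPolynomial.coeff m g • π (MvPolynomial.monomial m (1 : O)))]
    have h0 : π g = 0 := hg
    rw [← hsum, map_sum] at h0
    refine Eq.trans (Finset.sum_congr rfl fun m _ => ?_) h0
    exact (map_smul π _ _).symm
  obtain ⟨k, a, y, hxy, hca⟩ := Module.Flat.isTrivialRelation_of_sum_smul_eq_zero
    (f := fun j : ↥g.support => MvPolynomial.coeff (j : Fin n →₀ ℕ) g)
    (x := fun j : ↥g.support => π (MvPolynomial.monomial (j : Fin n →₀ ℕ) (1 : O))) hrel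
  have hca' : ∀ l, ∑ j : ↥g.support, MvPolynomial.coeff (j : Fin n →₀ ℕ) g * a j l = 0 := hca
  choose z hz using fun l => hπ (y l)
  let ij : ↥g.support → MvPolynomial (Fin n) O := fun j =>
    MvPolynomial.monomial (j : Fin n →₀ ℕ) (1 : O) - ∑ l, a j l • z l
  have hij : ∀ j, ij j ∈ RingHom.ker π := by
    intro j
    show π (MvPolynomial.monomial (j : Fin n →₀ ℕ) (1 : O) - ∑ l, a j l • z l) = 0
    have hxyj : π (MvPolynomial.monomial (j : Fin n →₀ ℕ) (1 : O)) = ∑ l, a j l • y l := hxy j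
    rw [map_sub, map_sum, hxyj, sub_eq_zero]
    exact Finset.sum_congr rfl fun l _ => by rw [map_smul, hz l]
  have hg2 : g = ∑ j : ↥g.support, MvPolynomial.coeff (j : Fin n →₀ ℕ) g • ij j := by
    have h1 : ∑ j : ↥g.support, MvPolynomial.coeff (j : Fin n →₀ ℕ) g • ij j =
        ∑ j : ↥g.support, MvPolynomial.coeff (j : Fin n →₀ ℕ) g •
          MvPolynomial.monomial (j : Fin n →₀ ℕ) (1 : O)
        - ∑ l, (∑ j : ↥g.support, MvPolynomial.coeff (j : Fin n →₀ ℕ) g * a j l) • z l := by
      simp only [ij, smul_sub, Finset.sum_sub_distrib, Finset.smul_sum, smul_smul, Finset.sum_smul]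
      congr 1
      exact Finset.sum_comm
    rw [h1, Finset.sum_coe_sort g.support
      (fun m => MvPolynomial.coeff m g • MvPolynomial.monomial m (1 : O)), hsum]
    simp only [hca', zero_smul, Finset.sum_const_zero, sub_zero]
  rw [hg2]
  refine Submodule.sum_mem _ fun j _ => ?_
  obtain ⟨t, ht, htK⟩ := hK₁ (ij j) (hij j)
  obtain ⟨p', _, hp'⟩ := divP pp hK ht (hcoef (j : Fin n →₀ ℕ))
  rw [hp', mul_comm, mul_smul]
  exact Submodule.smul_of_tower_mem K₁ p' htK

include hK in
theorem fp_of_semival [Module.Flat O C] [Algebra.FiniteType O C]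
    [Algebra.FinitePresentation A (A ⊗[O] C)] : Algebra.FinitePresentation O C := by
  classical
  obtain ⟨n, π, hπ⟩ := Algebra.FiniteType.iff_quotient_mvPolynomial''.mp
    (inferInstance : Algebra.FiniteType O C)
  obtain ⟨K₁, hK₁le, hK₁fg, hK₁⟩ := exists_K1 pp A C π hπ
  haveI : ValuationRing (O ⧸ pp) := valuationRing_quotient pp hK
  haveI : Algebra.FinitePresentation (O ⧸ pp) ((O ⧸ pp) ⊗[O] C) :=
    algebra_finitePresentation_of_flat (O ⧸ pp) ((O ⧸ pp) ⊗[O] C)
  obtain ⟨s₂, hs₂1, hs₂2⟩ := exists_finset_map_eq C (O ⧸ pp) π hπ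
  have hsurj : Function.Surjective (Algebra.TensorProduct.includeRight :
      MvPolynomial (Fin n) O →ₐ[O] (O ⧸ pp) ⊗[O] MvPolynomial (Fin n) O) := by
    intro z
    induction z using TensorProduct.induction_on with
    | zero => exact ⟨0, map_zero _⟩
    | tmul v p =>
      obtain ⟨o, rfl⟩ := Ideal.Quotient.mk_surjective v
      refine ⟨o • p, ?_⟩
      rw [Algebra.TensorProduct.includeRight_apply, TensorProduct.tmul_smul,
        TensorProduct.smul_tmul']
      congr 1
      rw [Algebra.smul_def, mul_one]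
      rfl
    | add z w hz hw =>
      obtain ⟨a, rfl⟩ := hz
      obtain ⟨b, rfl⟩ := hw
      exact ⟨a + b, map_add _ _ _⟩
  have hle : RingHom.ker π ≤ K₁ ⊔ Ideal.span (s₂ : Set (MvPolynomial (Fin n) O)) := by
    intro h hh
    have h0 := Ideal.mem_map_of_mem (Algebra.TensorProduct.includeRight :
      MvPolynomial (Fin n) O →ₐ[O] (O ⧸ pp) ⊗[O] MvPolynomial (Fin n) O) hh
    rw [← hs₂2] at h0
    obtain ⟨x, hx, hxh⟩ := (Ideal.mem_map_iff_of_surjective _ hsurj).mp h0
    have hx' : x ∈ RingHom.ker π := (Ideal.span_le.mpr hs₂1) hx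
    have hh' : h - x ∈ RingHom.ker π := (RingHom.ker π).sub_mem hh hx'
    have h10 : (1 : O ⧸ pp) ⊗ₜ[O] (h - x) = 0 := by
      have h11 : (Algebra.TensorProduct.includeRight :
          MvPolynomial (Fin n) O →ₐ[O] (O ⧸ pp) ⊗[O] MvPolynomial (Fin n) O) (h - x) = 0 := by
        rw [map_sub, hxh, sub_self]
      exact h11
    have hmap : MvPolynomial.map (algebraMap O (O ⧸ pp)) (h - x) = 0 := by
      have h12 := congrArg (MvPolynomial.algebraTensorAlgEquiv O (O ⧸ pp)) h10
      rw [MvPolynomial.algebraTensorAlgEquiv_tmul, one_smul, map_zero] at h12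
      exact h12
    have hcoef : ∀ m, MvPolynomial.coeff m (h - x) ∈ pp := by
      intro m
      have h13 := congrArg (MvPolynomial.coeff m) hmap
      rw [MvPolynomial.coeff_map, MvPolynomial.coeff_zero] at h13
      exact Ideal.Quotient.eq_zero_iff_mem.mp h13
    have hK1mem : h - x ∈ K₁ := mem_K1_of_coeff pp hK C π hπ K₁ hK₁ (h - x) hh' hcoef
    have hdec : h = (h - x) + x := by ring
    rw [hdec]
    exact Ideal.add_mem _ (Ideal.mem_sup_left hK1mem) (Ideal.mem_sup_right hx)
  have hKeq : RingHom.ker π = K₁ ⊔ Ideal.span (s₂ : Set (MvPolynomial (Fin n) O)) :=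
    le_antisymm hle (sup_le hK₁le (Ideal.span_le.mpr hs₂1))
  have hfgK : (RingHom.ker π).FG := by
    rw [hKeq]
    exact Submodule.FG.sup hK₁fg ⟨s₂, rfl⟩
  exact Algebra.FinitePresentation.of_surjective hπ hfgK

end Gen

section Concrete

theorem main (A : Type u) [CommRing A] [IsLocalRing A]
    (R : ValuationSubring (IsLocalRing.ResidueField A))
    (O : Subring A) (hO : O = R.toSubring.comap (IsLocalRing.residue A))
    (C : Type u) [CommRing C] [Algebra ↥O C] [Algebra.FiniteType ↥O C]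
    (hadm : Function.Injective (Algebra.TensorProduct.includeRight : C →ₐ[↥O] A ⊗[↥O] C))
    (hflat : Module.Flat A (A ⊗[↥O] C)) (hfp : Algebra.FinitePresentation A (A ⊗[↥O] C)) :
    Module.Flat ↥O C ∧ Algebra.FinitePresentation ↥O C := by
  classical
  have hmemO : ∀ a : A, a ∈ O ↔ IsLocalRing.residue A a ∈ R := by
    intro a
    rw [hO]
    exact Iff.rfl
  let pp : Ideal ↥O := (IsLocalRing.maximalIdeal A).comap (algebraMap ↥O A)
  haveI hpp : pp.IsPrime := Ideal.comap_isPrime (algebraMap ↥O A) (IsLocalRing.maximalIdeal A)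
  have hmempp : ∀ t : ↥O, t ∈ pp ↔ (t : A) ∈ IsLocalRing.maximalIdeal A := fun t => Iff.rfl
  have hunit : ∀ t : ↥O, t ∉ pp → IsUnit (t : A) := fun t ht =>
    IsLocalRing.notMem_maximalIdeal.mp (fun h => ht ((hmempp t).mpr h))
  have hres_inv : ∀ u : Aˣ, IsLocalRing.residue A ((u⁻¹ : Aˣ) : A) =
      (IsLocalRing.residue A (u : A))⁻¹ := by
    intro u
    have h1 : IsLocalRing.residue A ((u⁻¹ : Aˣ) : A) * IsLocalRing.residue A (u : A) = 1 := by
      rw [← map_mul, Units.inv_mul, map_one]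
    exact eq_inv_of_mul_eq_one_left h1
  have hK : ∀ a b : ↥O, b ∉ pp → b ∣ a ∨ a ∣ b := by
    intro a b hb
    obtain ⟨ub, hub⟩ := hunit b hb
    by_cases h : IsLocalRing.residue A (a : A) * (IsLocalRing.residue A (b : A))⁻¹ ∈ R
    · left
      have hc : (a : A) * ((ub⁻¹ : Aˣ) : A) ∈ O := by
        rw [hmemO, map_mul, hres_inv, hub]
        exact h
      refine ⟨⟨(a : A) * ((ub⁻¹ : Aˣ) : A), hc⟩, ?_⟩
      apply Subtype.ext
      show (a : A) = (b : A) * ((a : A) * ((ub⁻¹ : Aˣ) : A))
      rw [← hub, mul_comm (a : A), ← mul_assoc, Units.mul_inv, one_mul]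
    · right
      have h' : (IsLocalRing.residue A (a : A) * (IsLocalRing.residue A (b : A))⁻¹)⁻¹ ∈ R :=
        (R.mem_or_inv_mem _).resolve_left h
      have ha0 : IsLocalRing.residue A (a : A) ≠ 0 := by
        intro h0
        apply h
        rw [h0, zero_mul]
        exact R.zero_mem
      have hau : IsUnit (a : A) := by
        apply IsLocalRing.notMem_maximalIdeal.mp
        intro hm
        exact ha0 ((IsLocalRing.residue_eq_zero_iff _).mpr hm)
      obtain ⟨ua, hua⟩ := hau
      have hc : (b : A) * ((ua⁻¹ : Aˣ) : A) ∈ O := by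
        rw [hmemO, map_mul, hres_inv, hua]
        rw [mul_inv_rev, inv_inv] at h'
        exact h'
      refine ⟨⟨(b : A) * ((ua⁻¹ : Aˣ) : A), hc⟩, ?_⟩
      apply Subtype.ext
      show (b : A) = (a : A) * ((b : A) * ((ua⁻¹ : Aˣ) : A))
      rw [← hua, mul_comm (b : A), ← mul_assoc, Units.mul_inv, one_mul]
  have hreg : ∀ t : ↥O, t ∉ pp → ∀ x : ↥O, t * x = 0 → x = 0 := by
    intro t ht x hx
    obtain ⟨u, hu⟩ := hunit t ht
    apply Subtype.ext
    have h1 : (t : A) * (x : A) = 0 := congrArg Subtype.val hx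
    rw [← hu] at h1
    exact (Units.mul_right_eq_zero u).mp h1
  haveI hloc : IsLocalization.AtPrime A pp := by
    refine (isLocalization_iff (M := pp.primeCompl) (S := A)).mpr ⟨?_, ?_, ?_⟩
    · intro y
      exact hunit y.1 y.2
    · intro z
      by_cases hz : IsLocalRing.residue A z ∈ R
      · refine ⟨(⟨z, (hmemO z).mpr hz⟩, 1), ?_⟩
        show z * (1 : A) = z
        rw [mul_one]
      · have hz' : (IsLocalRing.residue A z)⁻¹ ∈ R := (R.mem_or_inv_mem _).resolve_left hz
        have hz0 : IsLocalRing.residue A z ≠ 0 := fun h0 => hz (h0 ▸ R.zero_mem)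
        have hzu : IsUnit z := IsLocalRing.notMem_maximalIdeal.mp
          (fun hm => hz0 ((IsLocalRing.residue_eq_zero_iff _).mpr hm))
        obtain ⟨uz, huz⟩ := hzu
        have hmem : ((uz⁻¹ : Aˣ) : A) ∈ O := by
          rw [hmemO, hres_inv, huz]
          exact hz'
        have hnot : (⟨((uz⁻¹ : Aˣ) : A), hmem⟩ : ↥O) ∉ pp := by
          intro hm
          have hm' : ((uz⁻¹ : Aˣ) : A) ∈ IsLocalRing.maximalIdeal A := hm
          exact (IsLocalRing.notMem_maximalIdeal.mpr (uz⁻¹).isUnit) hm'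
        refine ⟨(1, ⟨⟨((uz⁻¹ : Aˣ) : A), hmem⟩, hnot⟩), ?_⟩
        show z * ((uz⁻¹ : Aˣ) : A) = (1 : A)
        rw [← huz, Units.mul_inv]
    · intro x y hxy
      exact ⟨1, by rw [show x = y from Subtype.ext hxy]⟩
  have hinj : Function.Injective (TensorProduct.mk ↥O A C 1) := fun x y h => hadm h
  haveI : Module.Flat ↥O A := IsLocalization.flat A pp.primeCompl
  haveI : Module.Flat ↥O (A ⊗[↥O] C) := Module.Flat.trans ↥O A (A ⊗[↥O] C)
  have hflatO : Module.Flat ↥O C :=
    flat_of_semival pp hK hreg (TensorProduct.mk ↥O A C 1) hinj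
  haveI := hflatO
  haveI := hfp
  exact ⟨hflatO, fp_of_semival pp hK A C⟩

end Concrete

end Groth.Agent.Helper7.SemiVal
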